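import Cfsg.Agent.H87.OmegaSeven.TwistSmall
import Cfsg.Agent.H87.OmegaSeven.TwistTop

/-!
Order bound for any group generated by elements satisfying the twisted relations.
-/

set_option autoImplicit false

namespace Cfsg.Agent.H87.OmegaSeven

open Cfsg.Agent.H45

/-- inverse letters -/
def ivL : List ℕ := [0, 1, 2, 3, 4, 5, 6, 7, 8, 10, 9, 12, 11]

variable {P : Type*} [Group P] {e : ℕ → P}

/-- subgroup generated by some letters -/
def subL (e : ℕ → P) (ls : List ℕ) : Subgroup P := Subgroup.closure {g | ∃ l ∈ ls, e l = g}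

/-- the hypotheses on the images of the letters -/
structure Sat (e : ℕ → P) : Prop where
  rel : ∀ w ∈ M9.relWords, evalW e w = 1
  inv : ∀ l, e (linv ivL l) = (e l)⁻¹

theorem subL_nil_card : Finite (subL e []) ∧ Nat.card (subL e []) ≤ 1 := by
  rw [show subL e [] = ⊥ by simp [subL]]
  exact ⟨inferInstance, le_of_eq Subgroup.card_bot⟩

/-- one step of the bound, over a table on some of the involutory letters -/
theorem Sat.step (h : Sat e) {D : Dat} {n m : ℕ} {ls ms : List ℕ} {tree : List ℕ}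
    {bs : List Blk} (hL : D.L = ls.length) (hiv : D.iv = List.range ls.length)
    (hlt : (ls.all fun l => decide (l < 9)) = true)
    (hR : (D.R.all fun w => decide ((w.map fun l => ls.getD l 13) ∈ M9.relWords)) = true)
    (hS : (D.S.all fun w => w.all fun l => decide (ls.getD l 13 ∈ ms)) = true)
    (hT : ∀ l, l < D.L → ∀ i, i < n → tget D.cols i l < n) (hn : 0 < n)
    (hc : closeCheck D n tree bs = true)
    (hm : Finite (subL e ms) ∧ Nat.card (subL e ms) ≤ m) :
    Finite (subL e ls) ∧ Nat.card (subL e ls) ≤ n * m := by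
  let f : ℕ → P := fun l => e (ls.getD l 13)
  have hlinv : ∀ l, linv ivL (ls.getD l 13) = ls.getD l 13 := by
    intro l
    have key : ∀ j, j < 9 ∨ j = 13 → linv ivL j = j := by
      intro j hj
      rcases hj with hj | rfl
      · interval_cases j <;> rfl
      · rfl
    refine key _ ?_
    by_cases hl : l < ls.length
    · left
      rw [List.getD_eq_getElem _ _ hl]
      exact of_decide_eq_true ((List.all_eq_true.mp hlt) _ (List.getElem_mem hl))
    · right
      rw [List.getD_eq_default _ _ (le_of_not_gt hl)]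
  have hinv : ∀ l, f (linv D.iv l) = (f l)⁻¹ := by
    intro l
    rw [hiv, linv_range]
    show e _ = (e _)⁻¹
    rw [← h.inv, hlinv]
  have hD : Hyp D f (subL e ms) := by
    refine ⟨hinv, fun w hw => ?_, fun w hw => ?_⟩
    · rw [← evalW_map e (fun l => ls.getD l 13)]
      exact h.rel _ (of_decide_eq_true ((List.all_eq_true.mp hR) w hw))
    · apply list_prod_mem
      intro x hx
      obtain ⟨l, hl, rfl⟩ := List.mem_map.mp hx
      exact Subgroup.subset_closure ⟨_,
        of_decide_eq_true ((List.all_eq_true.mp ((List.all_eq_true.mp hS) w hw)) l hl), rfl⟩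
  have hE : ∀ l, l < D.L → f l ∈ subL e ls := by
    intro l hl
    refine Subgroup.subset_closure ⟨_, ?_, rfl⟩
    rw [hL] at hl
    rw [List.getD_eq_getElem _ _ hl]
    exact List.getElem_mem hl
  obtain ⟨-, w, hw0, -, hw⟩ := closeCheck_sound hD hE hc
  have := hm.1
  refine card_le_of_cosets (w := w) (cosets_exhaust (e := f) (iv := D.iv) ?_ (fun l hl => ⟨?_, hinv l⟩)
    hT hn hw0 hw) hm.2
  · refine (Subgroup.closure_le _).mpr ?_
    rintro _ ⟨x, hx, rfl⟩
    obtain ⟨k, hk, rfl⟩ := List.getElem_of_mem hx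
    refine Subgroup.subset_closure ⟨k, hL ▸ hk, ?_⟩
    change e (ls.getD k 13) = e ls[k]
    rw [List.getD_eq_getElem _ _ hk]
  · rw [hiv, linv_range]; exact hl

theorem Sat.small (h : Sat e) : Finite (subL e [0, 1, 2, 3, 4, 5, 6, 8]) ∧
    Nat.card (subL e [0, 1, 2, 3, 4, 5, 6, 8]) ≤ 5806080 := by
  have h1 : Finite (subL e [8]) ∧ Nat.card (subL e [8]) ≤ 2 := by
    simpa using h.step (D := M1.dat) (ls := [8]) (ms := []) (m := 1) rfl rfl (by decide +kernel)
      (by decide +kernel) (by decide +kernel) (ltCheck_sound M1.lt_ok) (by norm_num) M1.close_ok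
      subL_nil_card
  have h2 : Finite (subL e [0, 8]) ∧ Nat.card (subL e [0, 8]) ≤ 4 := by
    simpa using h.step (D := M2.dat) (ls := [0, 8]) (ms := [8]) (m := 2) rfl rfl (by decide +kernel)
      (by decide +kernel) (by decide +kernel) (ltCheck_sound M2.lt_ok) (by norm_num) M2.close_ok h1
  have h3 : Finite (subL e [0, 1, 8]) ∧ Nat.card (subL e [0, 1, 8]) ≤ 12 := by
    simpa using h.step (D := M3.dat) (ls := [0, 1, 8]) (ms := [0, 8]) (m := 4) rfl rfl
      (by decide +kernel)
      (by decide +kernel) (by decide +kernel) (ltCheck_sound M3.lt_ok) (by norm_num) M3.close_ok h2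
  have h4 : Finite (subL e [0, 1, 2, 8]) ∧ Nat.card (subL e [0, 1, 2, 8]) ≤ 48 := by
    simpa using h.step (D := M4.dat) (ls := [0, 1, 2, 8]) (ms := [0, 1, 8]) (m := 12) rfl rfl
      (by decide +kernel)
      (by decide +kernel) (by decide +kernel) (ltCheck_sound M4.lt_ok) (by norm_num) M4.close_ok h3
  have h5 : Finite (subL e [0, 1, 2, 3, 8]) ∧ Nat.card (subL e [0, 1, 2, 3, 8]) ≤ 240 := by
    simpa using h.step (D := M5.dat) (ls := [0, 1, 2, 3, 8]) (ms := [0, 1, 2, 8]) (m := 48) rfl rfl
      (by decide +kernel)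
      (by decide +kernel) (by decide +kernel) (ltCheck_sound M5.lt_ok) (by norm_num) M5.close_ok h4
  have h6 : Finite (subL e [0, 1, 2, 3, 6, 8]) ∧ Nat.card (subL e [0, 1, 2, 3, 6, 8]) ≤ 3840 := by
    simpa using h.step (D := M6.dat) (ls := [0, 1, 2, 3, 6, 8]) (ms := [0, 1, 2, 3, 8]) (m := 240)
      rfl rfl (by decide +kernel)
      (by decide +kernel) (by decide +kernel) (ltCheck_sound M6.lt_ok) (by norm_num) M6.close_ok h5
  have h7 : Finite (subL e [0, 1, 2, 3, 4, 6, 8]) ∧
      Nat.card (subL e [0, 1, 2, 3, 4, 6, 8]) ≤ 103680 := by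
    simpa using h.step (D := M7.dat) (ls := [0, 1, 2, 3, 4, 6, 8]) (ms := [0, 1, 2, 3, 6, 8])
      (m := 3840) rfl rfl (by decide +kernel)
      (by decide +kernel) (by decide +kernel) (ltCheck_sound M7.lt_ok) (by norm_num) M7.close_ok h6
  simpa using h.step (D := M8.dat) (ls := [0, 1, 2, 3, 4, 5, 6, 8]) (ms := [0, 1, 2, 3, 4, 6, 8])
    (m := 103680) rfl rfl (by decide +kernel)
    (by decide +kernel) (by decide +kernel) (ltCheck_sound M8.lt_ok) (by norm_num) M8.close_ok h7

/-- the bound -/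
theorem Sat.card_le (h : Sat e) (hgen : Subgroup.closure {g | ∃ l < 13, e l = g} = ⊤) :
    Finite P ∧ Nat.card P ≤ 55024220160 := by
  have hm := h.small
  have hD : Hyp M9.dat e (subL e [0, 1, 2, 3, 4, 5, 6, 8]) := by
    refine ⟨h.inv, h.rel, fun w hw => ?_⟩
    apply list_prod_mem
    intro x hx
    obtain ⟨l, hl, rfl⟩ := List.mem_map.mp hx
    have key : (M9.subWords.all fun w => w.all fun l => decide (l ∈ [0, 1, 2, 3, 4, 5, 6, 8])) = true := by
      decide +kernel
    exact Subgroup.subset_closure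
      ⟨l, of_decide_eq_true ((List.all_eq_true.mp ((List.all_eq_true.mp key) w hw)) l hl), rfl⟩
  obtain ⟨w, hw0, -, hw⟩ := closeSegs_sound (n := 9477) (K0 := M9.known0) (K1 := M9.known9)
    (tree := M9.tree) (segs := M9.segs) hD (E := ⊤) (fun _ _ => Subgroup.mem_top _)
    M9.tree_ok M9.segs_ok M9.full_ok
  have hT : ∀ l, l < 13 → ∀ i, i < 9477 → tget M9.cols i l < 9477 := permCheck_lt M9.pt_ok
  have := hm.1
  obtain ⟨hfin, hle⟩ := card_le_of_cosets (E := (⊤ : Subgroup P)) (w := w)
    (cosets_exhaust (e := e) (iv := ivL) (L := 13) (n := 9477) (cols := M9.cols)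
      (le_of_eq hgen.symm)
      (fun l hl => ⟨by
        have : ∀ l : Fin 13, linv ivL l.val < 13 := by decide
        exact this ⟨l, hl⟩, h.inv l⟩)
      hT (by norm_num) hw0 hw) hm.2
  have : Finite P := Finite.of_equiv _ Subgroup.topEquiv.toEquiv
  refine ⟨this, ?_⟩
  rwa [Nat.card_congr Subgroup.topEquiv.toEquiv] at hle

end Cfsg.Agent.H87.OmegaSeven
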