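import Cfsg.Agent.H87.CoxeterStem

/-!
The diagram with three arms of lengths two, two and three at the letters `b, ..., i`.
-/

set_option autoImplicit false

namespace Cfsg.Agent.H87.OmegaSeven

open Cfsg.Agent.H87.CoxeterStem

universe u

/-- adjacency -/
def adjT (i j : Fin 8) : Bool :=
  decide ((min i.val j.val, max i.val j.val) ∈
    [(0, 1), (1, 2), (2, 3), (2, 6), (3, 4), (4, 5), (6, 7)])

/-- the entries of the diagram -/
def label (i j : Fin 8) : ℕ := if i = j then 1 else if adjT i j then 3 else 2

/-- the matrix of the diagram -/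
def treeMatrix : CoxeterMatrix (Fin 8) where
  M := Matrix.of label
  isSymm := Matrix.IsSymm.ext fun i j => by
    have h : ∀ i j : Fin 8, label j i = label i j := by decide +kernel
    exact h i j
  diagonal i := by
    have h : ∀ i : Fin 8, label i i = 1 := by decide +kernel
    exact h i
  off_diagonal i j hij := by
    have h : ∀ i j : Fin 8, i = j ∨ label i j ≠ 1 := by decide +kernel
    exact (h i j).resolve_left hij

local notation "M" => treeMatrix

theorem entries (i j : Fin 8) : M i j = 1 ∨ M i j = 2 ∨ M i j = 3 := by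
  have h : ∀ i j : Fin 8, label i j = 1 ∨ label i j = 2 ∨ label i j = 3 := by decide +kernel
  exact h i j

theorem diagram : Diagram.{u} M where
  laced := entries
  pairs := by
    intro X c hs hm
    have m := fun i j k h1 h2 h3 => hm i j k h1 h2 h3
    have s := fun i j h => hs i j h
    have a07 : c 0 7 = c 0 7 := rfl
    have a70 : c 7 0 = c 0 7 := (s 7 0 (by decide)).trans a07
    have a06 : c 0 6 = c 0 7 := (m 0 7 6 (by decide) (by decide) (by decide)).symm.trans a07
    have a71 : c 7 1 = c 0 7 := (m 7 0 1 (by decide) (by decide) (by decide)).symm.trans a70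
    have a60 : c 6 0 = c 0 7 := (s 6 0 (by decide)).trans a06
    have a02 : c 0 2 = c 0 7 := (m 0 6 2 (by decide) (by decide) (by decide)).symm.trans a06
    have a17 : c 1 7 = c 0 7 := (s 1 7 (by decide)).trans a71
    have a72 : c 7 2 = c 0 7 := (m 7 1 2 (by decide) (by decide) (by decide)).symm.trans a71
    have a61 : c 6 1 = c 0 7 := (m 6 0 1 (by decide) (by decide) (by decide)).symm.trans a60
    have a20 : c 2 0 = c 0 7 := (s 2 0 (by decide)).trans a02
    have a03 : c 0 3 = c 0 7 := (m 0 2 3 (by decide) (by decide) (by decide)).symm.trans a02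
    have a16 : c 1 6 = c 0 7 := (m 1 7 6 (by decide) (by decide) (by decide)).symm.trans a17
    have a27 : c 2 7 = c 0 7 := (s 2 7 (by decide)).trans a72
    have a73 : c 7 3 = c 0 7 := (m 7 2 3 (by decide) (by decide) (by decide)).symm.trans a72
    have a30 : c 3 0 = c 0 7 := (s 3 0 (by decide)).trans a03
    have a04 : c 0 4 = c 0 7 := (m 0 3 4 (by decide) (by decide) (by decide)).symm.trans a03
    have a37 : c 3 7 = c 0 7 := (s 3 7 (by decide)).trans a73
    have a74 : c 7 4 = c 0 7 := (m 7 3 4 (by decide) (by decide) (by decide)).symm.trans a73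
    have a31 : c 3 1 = c 0 7 := (m 3 0 1 (by decide) (by decide) (by decide)).symm.trans a30
    have a40 : c 4 0 = c 0 7 := (s 4 0 (by decide)).trans a04
    have a05 : c 0 5 = c 0 7 := (m 0 4 5 (by decide) (by decide) (by decide)).symm.trans a04
    have a36 : c 3 6 = c 0 7 := (m 3 7 6 (by decide) (by decide) (by decide)).symm.trans a37
    have a47 : c 4 7 = c 0 7 := (s 4 7 (by decide)).trans a74
    have a75 : c 7 5 = c 0 7 := (m 7 4 5 (by decide) (by decide) (by decide)).symm.trans a74
    have a13 : c 1 3 = c 0 7 := (s 1 3 (by decide)).trans a31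
    have a41 : c 4 1 = c 0 7 := (m 4 0 1 (by decide) (by decide) (by decide)).symm.trans a40
    have a50 : c 5 0 = c 0 7 := (s 5 0 (by decide)).trans a05
    have a63 : c 6 3 = c 0 7 := (s 6 3 (by decide)).trans a36
    have a46 : c 4 6 = c 0 7 := (m 4 7 6 (by decide) (by decide) (by decide)).symm.trans a47
    have a57 : c 5 7 = c 0 7 := (s 5 7 (by decide)).trans a75
    have a14 : c 1 4 = c 0 7 := (m 1 3 4 (by decide) (by decide) (by decide)).symm.trans a13
    have a42 : c 4 2 = c 0 7 := (m 4 1 2 (by decide) (by decide) (by decide)).symm.trans a41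
    have a51 : c 5 1 = c 0 7 := (m 5 0 1 (by decide) (by decide) (by decide)).symm.trans a50
    have a64 : c 6 4 = c 0 7 := (m 6 3 4 (by decide) (by decide) (by decide)).symm.trans a63
    have a56 : c 5 6 = c 0 7 := (m 5 7 6 (by decide) (by decide) (by decide)).symm.trans a57
    have a15 : c 1 5 = c 0 7 := (m 1 4 5 (by decide) (by decide) (by decide)).symm.trans a14
    have a24 : c 2 4 = c 0 7 := (s 2 4 (by decide)).trans a42
    have a52 : c 5 2 = c 0 7 := (m 5 1 2 (by decide) (by decide) (by decide)).symm.trans a51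
    have a65 : c 6 5 = c 0 7 := (m 6 4 5 (by decide) (by decide) (by decide)).symm.trans a64
    have a25 : c 2 5 = c 0 7 := (m 2 4 5 (by decide) (by decide) (by decide)).symm.trans a24
    have a53 : c 5 3 = c 0 7 := (m 5 2 3 (by decide) (by decide) (by decide)).symm.trans a52
    have a35 : c 3 5 = c 0 7 := (s 3 5 (by decide)).trans a53
    refine ⟨c 0 7, fun i j h => ?_⟩
    fin_cases i <;> fin_cases j <;>
      first
        | exact absurd h (by decide)
        | assumption
  tree := by
    intro A _ b hb
    let t1 := b 0 1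
    let t2 := b 1 2 * t1
    let t3 := b 2 3 * t2
    let t4 := b 3 4 * t3
    let t6 := b 2 6 * t2
    let t : Fin 8 → A := ![1, t1, t2, t3, t4, b 4 5 * t4, t6, b 6 7 * t6]
    have rev : ∀ j k, M k j = 3 → t j = b k j * t k → t k = b j k * t j := fun j k h e => by
      rw [e, hb k j h, inv_mul_cancel_left]
    have e01 : t 1 = b 0 1 * t 0 := (mul_one _).symm
    have e12 : t 2 = b 1 2 * t 1 := rfl
    have e23 : t 3 = b 2 3 * t 2 := rfl
    have e26 : t 6 = b 2 6 * t 2 := rfl
    have e34 : t 4 = b 3 4 * t 3 := rfl
    have e45 : t 5 = b 4 5 * t 4 := rfl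
    have e67 : t 7 = b 6 7 * t 6 := rfl
    refine ⟨t, fun j k h => ?_⟩
    fin_cases j <;> fin_cases k <;>
      first
        | exact absurd h (by decide)
        | assumption
        | exact rev _ _ (by decide) (by assumption)
  connected := by
    intro X f hf
    have f1 : f 1 = f 0 := (hf 0 1 (by decide)).symm
    have f2 : f 2 = f 0 := (hf 1 2 (by decide)).symm.trans f1
    have f3 : f 3 = f 0 := (hf 2 3 (by decide)).symm.trans f2
    have f6 : f 6 = f 0 := (hf 2 6 (by decide)).symm.trans f2
    have f4 : f 4 = f 0 := (hf 3 4 (by decide)).symm.trans f3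
    have f5 : f 5 = f 0 := (hf 4 5 (by decide)).symm.trans f4
    have f7 : f 7 = f 0 := (hf 6 7 (by decide)).symm.trans f6
    have h : ∀ i, f i = f 0 := by
      intro i
      fin_cases i <;> first | rfl | assumption
    exact fun i j => (h i).trans (h j).symm

end Cfsg.Agent.H87.OmegaSeven
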