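import Cfsg.Agent.H97.Omega.Spin

/-!
A double cover by a central involution, inside the units of the Clifford algebra.
-/

set_option autoImplicit false
set_option linter.unusedSectionVars false
set_option maxHeartbeats 1000000

namespace Cfsg.Agent.H87.OmegaSeven

open QuadraticMap Module
open Cfsg.Agent.Orthogonal Cfsg.Agent.H97.Omega
open CliffordAlgebra (ι ι_sq_scalar ι_mul_ι_add_swap)

universe u v

variable {F : Type u} {V : Type v} [Field F] [AddCommGroup V] [Module F V] {Q : QuadraticForm F V}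
  [FiniteDimensional F V] [Finite F]

/-- A perfect cover with a central involution in the kernel. -/
theorem exists_spin_double (h2 : (2 : F) ≠ 0) (hQ : Nondeg Q) (h5 : 5 ≤ finrank F V) {e₁ e₂ e₃ : V}
    (q1 : Q e₁ = 1) (q2 : Q e₂ = 1) (q3 : Q e₃ = 1) (p12 : polar Q e₁ e₂ = 0)
    (p13 : polar Q e₁ e₃ = 0) (p23 : polar Q e₂ e₃ = 0) :
    ∃ (E : Type (max u v)) (_ : Group E) (_ : Finite E) (π : E →* commutator (O Q)) (ε : E),
      Group.IsPerfect E ∧ Function.Surjective π ∧ π.ker ≤ Subgroup.center E ∧ π ε = 1 ∧ ε ≠ 1 ∧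
      ε * ε = 1 := by
  classical
  let ρ := pairRep (Q := Q) h2
  let Γ : Subgroup (pairGroup Q) := (commutator (O Q)).comap ρ
  let σ : Γ →* commutator (O Q) := (ρ.comp Γ.subtype).codRestrict _ fun u => u.2
  have hσ : Function.Surjective σ := by
    intro g
    obtain ⟨l, hl, hg⟩ := exists_refl_list hQ h2 (g : O Q)
    have hd := ((mem_commutator_iff hQ h2 _).1 g.2).1
    rw [← hg, detSign_list hQ h2 hl] at hd
    have hev : Even l.length := by
      by_contra ho
      rw [(Nat.not_even_iff_odd.1 ho).neg_one_pow] at hd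
      exact absurd hd (by decide)
    obtain ⟨u, hu⟩ := pair_mem_range h2 l hl hev
    rw [hg] at hu
    exact ⟨⟨u, show ρ u ∈ commutator (O Q) from hu ▸ g.2⟩, Subtype.ext hu⟩
  have hσc : σ.ker ≤ Subgroup.center Γ := by
    intro u hu
    rw [Subgroup.mem_center_iff]
    intro p
    exact Subtype.ext (Subgroup.mem_center_iff.1
      (pairRep_ker h2 (show (u : pairGroup Q) ∈ ρ.ker from congrArg Subtype.val hu)) p)
  have hperfO : Group.IsPerfect (commutator (O Q)) :=
    Subgroup.isPerfect_iff.2 (commutator_commutator hQ h5)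
  obtain ⟨hmap, hperf⟩ := Cfsg.Agent.H74.Schur.commutator_perfect hσ hσc hperfO
  let π : commutator Γ →* commutator (O Q) := σ.comp (commutator Γ).subtype
  have hfinO : Finite (commutator (O Q)) := by
    have : Finite V := Module.finite_of_finite F
    have : Finite (O Q) := Finite.of_injective (fun g : O Q => ((g : V ≃ₗ[F] V) : V → V))
      fun g g' h => O.ext_app fun x => congrFun h x
    infer_instance
  have hfin : Finite (commutatorSet Γ) := by
    let s := Function.surjInv hσ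
    have hs : ∀ g, σ (s g) = g := Function.surjInv_eq hσ
    refine (Set.Finite.subset (Set.finite_range fun p : commutator (O Q) × commutator (O Q) =>
      s p.1 * s p.2 * (s p.1)⁻¹ * (s p.2)⁻¹) ?_).to_subtype
    rintro _ ⟨p, p', rfl⟩
    refine ⟨(σ p, σ p'), ?_⟩
    have hz : ∀ p, (s (σ p))⁻¹ * p ∈ Subgroup.center Γ := fun p => hσc (by
      rw [MonoidHom.mem_ker, map_mul, map_inv, hs, inv_mul_cancel])
    conv_rhs => rw [commutatorElement_def, ← mul_inv_cancel_left (s (σ p)) p,
      ← mul_inv_cancel_left (s (σ p')) p',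
      Cfsg.Agent.H74.Schur.commutatorElement_mul_central (hz p) (hz p')]
  -- lifts of products of two reflections with norms of square product
  have lift : ∀ {v w : V}, Q v ≠ 0 → Q w ≠ 0 → IsSquare (Q v * Q w) → ∃ u : Γ,
      (((u : pairGroup Q) : (CliffordAlgebra Q)ˣ) : CliffordAlgebra Q) = ι Q v * ι Q w ∧
      (σ u : O Q) = rO Q v * rO Q w := by
    intro v w hv hw hsq
    obtain ⟨u, hu, hρ⟩ := exists_pair h2 hv hw
    have hm : ρ u ∈ commutator (O Q) := by
      rw [show ρ u = _ from hρ, mem_commutator_iff hQ h2, map_mul, map_mul, detSign_rO hQ h2 hv,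
        detSign_rO hQ h2 hw, spinor_rO hQ h2 hv, spinor_rO hQ h2 hw, ← sqSign_mul h2 hv hw,
        sqSign_of_isSquare hsq]
      exact ⟨by decide, rfl⟩
    exact ⟨⟨u, hm⟩, hu, hρ⟩
  have h1 : ∀ {x : V}, Q x = 1 → Q x ≠ 0 := fun h => by rw [h]; exact one_ne_zero
  -- minus one
  obtain ⟨p, hp, -⟩ := lift (h1 q1) (h1 q2) (by rw [q1, q2, one_mul]; exact IsSquare.one)
  obtain ⟨r, hr, -⟩ := lift (h1 q2) (h1 q3) (by rw [q2, q3, one_mul]; exact IsSquare.one)
  let m : Γ := p * r * p⁻¹ * r⁻¹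
  have hmv : (((m : pairGroup Q) : (CliffordAlgebra Q)ˣ)) = -1 := by
    have hpr : (((p : pairGroup Q) : (CliffordAlgebra Q)ˣ)) * ((r : pairGroup Q) : (CliffordAlgebra Q)ˣ)
        = -(((r : pairGroup Q) : (CliffordAlgebra Q)ˣ) * ((p : pairGroup Q) : (CliffordAlgebra Q)ˣ)) := by
      refine Units.ext ?_
      rw [Units.val_neg, Units.val_mul, Units.val_mul, hp, hr]
      have e1 : ι Q e₁ * ι Q e₂ * (ι Q e₂ * ι Q e₃) = ι Q e₁ * ι Q e₃ := by
        rw [mul_assoc, ← mul_assoc (ι Q e₂) (ι Q e₂), ι_sq_one q2, one_mul]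
      have e2 : ι Q e₂ * ι Q e₃ * (ι Q e₁ * ι Q e₂) = ι Q e₃ * ι Q e₁ := by
        rw [ι_swap p12, ι_swap p23, neg_mul_neg, mul_assoc, ← mul_assoc (ι Q e₂) (ι Q e₂), ι_sq_one q2,
          one_mul]
      rw [e1, e2, ι_swap p13]
    simp only [m, Subgroup.coe_mul, Subgroup.coe_inv]
    rw [hpr, neg_mul, neg_mul, mul_inv_cancel_right, mul_inv_cancel]
  have hmE : m ∈ commutator Γ :=
    Subgroup.commutator_mem_commutator (Subgroup.mem_top p) (Subgroup.mem_top r)
  have hm1 : σ m = 1 := Subtype.ext (pairRep_eq h2 fun x => by simp [hmv])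
  let ι' : commutator Γ →* (CliffordAlgebra Q)ˣ :=
    ((pairGroup Q).subtype.comp Γ.subtype).comp (commutator Γ).subtype
  refine ⟨commutator Γ, inferInstance, inferInstance, π, ⟨m, hmE⟩, hperf, fun g => ?_, fun x hx => ?_,
    hm1, fun h => ?_, ?_⟩
  · obtain ⟨d, hd, hde⟩ : g ∈ (commutator Γ).map σ := hmap ▸ Subgroup.mem_top g
    exact ⟨⟨d, hd⟩, hde⟩
  · rw [Subgroup.mem_center_iff]
    intro y
    exact Subtype.ext (Subgroup.mem_center_iff.1 (hσc hx) y)
  · have h' := congrArg ι' h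
    rw [map_one] at h'
    exact cliff_neg_one_ne (Q := Q) h2 (by
      have := congrArg Units.val ((hmv).symm.trans h')
      simpa using this)
  · refine Subtype.ext (Subtype.ext (Subtype.ext ?_))
    show ((m : pairGroup Q) : (CliffordAlgebra Q)ˣ) * ((m : pairGroup Q) : (CliffordAlgebra Q)ˣ) = 1
    rw [hmv, neg_mul_neg, one_mul]

end Cfsg.Agent.H87.OmegaSeven
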