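import Cfsg.Agent.H87.OmegaSeven.TableDefs

/-!
Kernel checks of the first relations on the table.
-/

set_option autoImplicit false
set_option Elab.async false
set_option maxRecDepth 100000

namespace Cfsg.Agent.H87.OmegaSeven

open Cfsg.Agent.H45

theorem rel_ok_0 : relOK 0 = true := by decide +kernel

theorem rel_ok_1 : relOK 1 = true := by decide +kernel

theorem rel_ok_2 : relOK 2 = true := by decide +kernel

theorem rel_ok_3 : relOK 3 = true := by decide +kernel

theorem rel_ok_4 : relOK 4 = true := by decide +kernel

theorem rel_ok_5 : relOK 5 = true := by decide +kernel

theorem rel_ok_6 : relOK 6 = true := by decide +kernel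

theorem rel_ok_7 : relOK 7 = true := by decide +kernel

theorem rel_ok_8 : relOK 8 = true := by decide +kernel

theorem rel_ok_9 : relOK 9 = true := by decide +kernel

theorem rel_ok_10 : relOK 10 = true := by decide +kernel

theorem rel_ok_11 : relOK 11 = true := by decide +kernel

theorem rel_ok_12 : relOK 12 = true := by decide +kernel

theorem rel_ok_13 : relOK 13 = true := by decide +kernel

theorem rel_ok_14 : relOK 14 = true := by decide +kernel

theorem rel_ok_15 : relOK 15 = true := by decide +kernel

theorem rel_ok_16 : relOK 16 = true := by decide +kernel

theorem rel_ok_17 : relOK 17 = true := by decide +kernel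

theorem rel_ok_18 : relOK 18 = true := by decide +kernel

theorem rel_ok_19 : relOK 19 = true := by decide +kernel

theorem rel_ok_20 : relOK 20 = true := by decide +kernel

theorem rel_ok_21 : relOK 21 = true := by decide +kernel

theorem rel_ok_22 : relOK 22 = true := by decide +kernel

theorem rel_ok_23 : relOK 23 = true := by decide +kernel

theorem rel_ok_24 : relOK 24 = true := by decide +kernel

theorem rel_ok_25 : relOK 25 = true := by decide +kernel

theorem rel_ok_26 : relOK 26 = true := by decide +kernel

theorem rel_ok_27 : relOK 27 = true := by decide +kernel

theorem rel_ok_28 : relOK 28 = true := by decide +kernel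

theorem rel_ok_29 : relOK 29 = true := by decide +kernel

theorem rel_ok_30 : relOK 30 = true := by decide +kernel

theorem rel_ok_31 : relOK 31 = true := by decide +kernel

theorem rel_ok_32 : relOK 32 = true := by decide +kernel

theorem rel_ok_33 : relOK 33 = true := by decide +kernel

end Cfsg.Agent.H87.OmegaSeven
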