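import Cfsg.Agent.H87.OmegaSeven.TableDefs

/-!
Kernel checks of the last relations on the table.
-/

set_option autoImplicit false
set_option Elab.async false
set_option maxRecDepth 100000

namespace Cfsg.Agent.H87.OmegaSeven

open Cfsg.Agent.H45

theorem rel_ok_34 : relOK 34 = true := by decide +kernel

theorem rel_ok_35 : relOK 35 = true := by decide +kernel

theorem rel_ok_36 : relOK 36 = true := by decide +kernel

theorem rel_ok_37 : relOK 37 = true := by decide +kernel

theorem rel_ok_38 : relOK 38 = true := by decide +kernel

theorem rel_ok_39 : relOK 39 = true := by decide +kernel

theorem rel_ok_40 : relOK 40 = true := by decide +kernel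

theorem rel_ok_41 : relOK 41 = true := by decide +kernel

theorem rel_ok_42 : relOK 42 = true := by decide +kernel

theorem rel_ok_43 : relOK 43 = true := by decide +kernel

theorem rel_ok_44 : relOK 44 = true := by decide +kernel

theorem rel_ok_45 : relOK 45 = true := by decide +kernel

theorem rel_ok_46 : relOK 46 = true := by decide +kernel

theorem rel_ok_47 : relOK 47 = true := by decide +kernel

theorem rel_ok_48 : relOK 48 = true := by decide +kernel

theorem rel_ok_49 : relOK 49 = true := by decide +kernel

theorem rel_ok_50 : relOK 50 = true := by decide +kernel

theorem rel_ok_51 : relOK 51 = true := by decide +kernel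

theorem rel_ok_52 : relOK 52 = true := by decide +kernel

theorem rel_ok_53 : relOK 53 = true := by decide +kernel

theorem rel_ok_54 : relOK 54 = true := by decide +kernel

theorem rel_ok_55 : relOK 55 = true := by decide +kernel

theorem rel_ok_56 : relOK 56 = true := by decide +kernel

theorem rel_ok_57 : relOK 57 = true := by decide +kernel

theorem rel_ok_58 : relOK 58 = true := by decide +kernel

theorem rel_ok_59 : relOK 59 = true := by decide +kernel

theorem rel_ok_60 : relOK 60 = true := by decide +kernel

theorem rel_ok_61 : relOK 61 = true := by decide +kernel

theorem rel_ok_62 : relOK 62 = true := by decide +kernel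

theorem rel_ok_63 : relOK 63 = true := by decide +kernel

theorem rel_ok_64 : relOK 64 = true := by decide +kernel

theorem rel_ok_65 : relOK 65 = true := by decide +kernel

theorem rel_ok_66 : relOK 66 = true := by decide +kernel

theorem rel_ok_67 : relOK 67 = true := by decide +kernel

end Cfsg.Agent.H87.OmegaSeven
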