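import Cfsg.Agent.H87.OmegaSeven.TableLetters
import Cfsg.Agent.H87.OmegaSeven.TableRelsA
import Cfsg.Agent.H87.OmegaSeven.TableRelsB

/-!
The table as permutations.
-/

set_option autoImplicit false

namespace Cfsg.Agent.H87.OmegaSeven

open Cfsg.Agent.H45

set_option maxRecDepth 100000 in
theorem perm_ok : permCheck 13 9477 M9.dat.iv M9.cols (M9.relWords ++ [[8], [11], [9, 9, 9]]) = true := by
  refine permCheck_parts (fun l hl => ?_) (n := 68) (by decide +kernel) (fun i hi => ?_)
  · interval_cases l
    exacts [letter_ok_0, letter_ok_1, letter_ok_2, letter_ok_3, letter_ok_4, letter_ok_5, letter_ok_6, letter_ok_7, letter_ok_8, letter_ok_9, letter_ok_10, letter_ok_11, letter_ok_12]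
  · interval_cases i
    exacts [rel_ok_0,
      rel_ok_1,
      rel_ok_2,
      rel_ok_3,
      rel_ok_4,
      rel_ok_5,
      rel_ok_6,
      rel_ok_7,
      rel_ok_8,
      rel_ok_9,
      rel_ok_10,
      rel_ok_11,
      rel_ok_12,
      rel_ok_13,
      rel_ok_14,
      rel_ok_15,
      rel_ok_16,
      rel_ok_17,
      rel_ok_18,
      rel_ok_19,
      rel_ok_20,
      rel_ok_21,
      rel_ok_22,
      rel_ok_23,
      rel_ok_24,
      rel_ok_25,
      rel_ok_26,
      rel_ok_27,
      rel_ok_28,
      rel_ok_29,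
      rel_ok_30,
      rel_ok_31,
      rel_ok_32,
      rel_ok_33,
      rel_ok_34,
      rel_ok_35,
      rel_ok_36,
      rel_ok_37,
      rel_ok_38,
      rel_ok_39,
      rel_ok_40,
      rel_ok_41,
      rel_ok_42,
      rel_ok_43,
      rel_ok_44,
      rel_ok_45,
      rel_ok_46,
      rel_ok_47,
      rel_ok_48,
      rel_ok_49,
      rel_ok_50,
      rel_ok_51,
      rel_ok_52,
      rel_ok_53,
      rel_ok_54,
      rel_ok_55,
      rel_ok_56,
      rel_ok_57,
      rel_ok_58,
      rel_ok_59,
      rel_ok_60,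
      rel_ok_61,
      rel_ok_62,
      rel_ok_63,
      rel_ok_64,
      rel_ok_65,
      rel_ok_66,
      rel_ok_67]

set_option maxRecDepth 100000 in
theorem moves_zero : Nat.beq (tget M9.cols 0 10) 0 = false := by decide +kernel

end Cfsg.Agent.H87.OmegaSeven
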