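import Cfsg.Agent.H87.OmegaSeven.TwistTop

/-!
The permutation check of the table, one letter and one relation at a time.
-/

set_option autoImplicit false

namespace Cfsg.Agent.H87.OmegaSeven

open Cfsg.Agent.H45

/-- The relations checked on the table. -/
abbrev tableR : List (List ℕ) := M9.relWords ++ [[8], [11], [9, 9, 9]]

/-- The check of letter `l`. -/
noncomputable def letterOK (l : ℕ) : Bool :=
  Nat.blt (linv M9.dat.iv l) 13 && Nat.beq (linv M9.dat.iv (linv M9.dat.iv l)) l &&
    colOK (M9.cols.getD l 0) (M9.cols.getD (linv M9.dat.iv l) 0) 9477 9477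

/-- The check of relation `i`. -/
noncomputable def relOK (i : ℕ) : Bool :=
  (tableR.getD i []).all (fun l => Nat.blt l 13) &&
    fixAll ((tableR.getD i []).map fun l => M9.cols.getD l 0) 9477

theorem permCheck_parts (hl : ∀ l < 13, letterOK l = true) {n : ℕ} (hn : Nat.beq tableR.length n = true)
    (hr : ∀ i < n, relOK i = true) : permCheck 13 9477 M9.dat.iv M9.cols tableR = true := by
  rw [permCheck, Bool.and_eq_true, List.all_eq_true, List.all_eq_true]
  refine ⟨fun l h => hl l (List.mem_range.1 h), fun w hw => ?_⟩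
  obtain ⟨i, hi, rfl⟩ := List.getElem_of_mem hw
  have := hr i (Nat.eq_of_beq_eq_true hn ▸ hi)
  rwa [relOK, List.getD_eq_getElem _ _ hi] at this

end Cfsg.Agent.H87.OmegaSeven
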