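import Cfsg.Agent.H87.OmegaSeven.TableDefs

/-!
Kernel checks of the letters of the table.
-/

set_option autoImplicit false
set_option Elab.async false
set_option maxRecDepth 100000

namespace Cfsg.Agent.H87.OmegaSeven

open Cfsg.Agent.H45

theorem letter_ok_0 : letterOK 0 = true := by decide +kernel

theorem letter_ok_1 : letterOK 1 = true := by decide +kernel

theorem letter_ok_2 : letterOK 2 = true := by decide +kernel

theorem letter_ok_3 : letterOK 3 = true := by decide +kernel

theorem letter_ok_4 : letterOK 4 = true := by decide +kernel

theorem letter_ok_5 : letterOK 5 = true := by decide +kernel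

theorem letter_ok_6 : letterOK 6 = true := by decide +kernel

theorem letter_ok_7 : letterOK 7 = true := by decide +kernel

theorem letter_ok_8 : letterOK 8 = true := by decide +kernel

theorem letter_ok_9 : letterOK 9 = true := by decide +kernel

theorem letter_ok_10 : letterOK 10 = true := by decide +kernel

theorem letter_ok_11 : letterOK 11 = true := by decide +kernel

theorem letter_ok_12 : letterOK 12 = true := by decide +kernel

end Cfsg.Agent.H87.OmegaSeven
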