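import Cfsg.Agent.H87.OmegaSeven.Chain
import Cfsg.Agent.H87.OmegaSeven.Diagram
import Cfsg.Agent.H87.TwistedStem
import Cfsg.Agent.H87.Fi22.OmegaMain
import Cfsg.Agent.H97.Omega.Glue
import Cfsg.Agent.H97.Omega.OddBase

/-!
Every finite stem extension of the presented group has kernel of order at most six.
-/

set_option autoImplicit false
set_option linter.unusedSectionVars false

namespace Cfsg.Agent.H87.OmegaSeven

open Subgroup
open Cfsg.Agent.H45 Cfsg.Agent.H87.CoxeterStem Cfsg.Agent.H87.Fi22
open scoped commutatorElement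

/-- the first long word -/
def wordS : List ℕ := (List.replicate 10 [2, 1, 0, 2, 3, 4, 2, 6, 7]).flatten

/-- the second long word -/
def wordZ : List ℕ := (List.replicate 9 [0, 1, 2, 3, 4, 5, 6]).flatten

/-- the relators by kind -/
def kinds : List (List ℕ) :=
  ((List.finRange 8).map fun a => [a.val, a.val]) ++
  ((List.finRange 8).flatMap fun a => ((List.finRange 8).filter fun b => label a b == 3).map
    fun b => [a.val, b.val, a.val, b.val, a.val, b.val]) ++
  ((List.finRange 8).flatMap fun a => ((List.finRange 8).filter fun b => label a b == 2).map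
    fun b => [a.val, b.val, a.val, b.val, 8]) ++
  [[8, 8], [9, 10], [11, 12], wordS ++ [10], wordZ ++ [12]] ++
  ((List.finRange 8).flatMap fun a =>
    [[8, a.val, 8, a.val], [9, a.val, 10, a.val], [11, a.val, 12, a.val]])

theorem relWords_kinds : (M9.relWords.all fun w => decide (w ∈ kinds)) = true := by decide +kernel

theorem word_facts : (wordS.all fun l => decide (l < 8)) = true ∧ (wordZ.all fun l => decide (l < 8)) = true ∧
    wordS ∈ omegaPres.R ∧ wordZ ∈ omegaPres.R := by decide +kernel

/-- the generators -/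
def gG (i : Fin 8) : omegaPres.Gp := omegaPres.e i.val

theorem hrel (i j : Fin 8) : (gG i * gG j) ^ treeMatrix i j = 1 := by
  have key : ∀ i j : Fin 8, ((List.replicate (label i j) [i.val, j.val]).flatten ∈ omegaPres.R) ∨
      ((List.replicate (label i j) [j.val, i.val]).flatten ∈ omegaPres.R) := by decide +kernel
  show (omegaPres.e i.val * omegaPres.e j.val) ^ label i j = 1
  rcases key i j with h | h
  · have := omegaPres_ok.rel _ h
    rwa [evalW_replicate] at this
  · have := omegaPres_ok.rel _ h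
    rw [evalW_replicate] at this
    exact pow_swap_eq_one this

theorem gG_gen : Subgroup.closure (Set.range gG) = ⊤ := by
  rw [← omegaPres_ok.sub_range, Pres.sub]
  congr 1
  ext x
  constructor
  · rintro ⟨i, rfl⟩
    exact ⟨i.val, List.mem_range.2 i.2, rfl⟩
  · rintro ⟨l, hl, rfl⟩
    exact ⟨⟨l, List.mem_range.1 hl⟩, rfl⟩

theorem gp_perfect : Group.IsPerfect omegaPres.Gp := by
  obtain ⟨-, hfin, hcard, hsimp⟩ := omega_facts
  refine Group.isPerfect_def.2 ((Subgroup.Normal.eq_bot_or_eq_top
    (inferInstance : (commutator omegaPres.Gp).Normal)).resolve_left fun hbot => ?_)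
  have hc : center omegaPres.Gp = ⊤ := (commutator_eq_bot_iff_center_eq_top _).1 hbot
  let _ : CommGroup omegaPres.Gp := { (inferInstance : Group omegaPres.Gp) with
    mul_comm := fun x y => mem_center_iff.1 (hc ▸ mem_top y) x }
  have := IsSimpleGroup.prime_card (α := omegaPres.Gp)
  rw [hcard] at this
  norm_num at this

section

variable {Γ : Type} [Group Γ]

theorem evalW_pair {A B : Type*} [Group A] [Group B] (q : Γ × A →* B) (r : ℕ → Γ) (c : A)
    (u : ℕ → B) : ∀ w : List ℕ, (∀ l ∈ w, u l = q (r l, c)) →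
      evalW u w = q (evalW r w, c ^ w.length)
  | [], _ => by rw [evalW_nil, evalW_nil, List.length_nil, pow_zero]; exact (map_one q).symm
  | l :: w, h => by
    rw [evalW_cons, evalW_cons, evalW_pair q r c u w (fun x hx => h x (List.mem_cons_of_mem _ hx)),
      h l List.mem_cons_self, List.length_cons, pow_succ', ← map_mul, Prod.mk_mul_mk]

theorem evalW_hom {H : Type*} [Group H] (σ : Γ →* H) (r : ℕ → Γ) (w : List ℕ) :
    σ (evalW r w) = evalW (fun l => σ (r l)) w := by
  induction w with
  | nil => simp [evalW]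
  | cons a w ih => rw [evalW_cons, evalW_cons, map_mul, ih]

theorem cube_eq {x y a : Γ} (hx : x * x = a) (hy : y * y = a) (hz : ∀ z, z * a = a * z)
    (h : x * y * x = y * x * y) : (x * y) ^ 3 = a ^ 3 := by
  calc (x * y) ^ 3 = (x * y * x) * (y * x * y) := by
        rw [pow_succ, pow_two]; simp only [mul_assoc]
    _ = (y * x) * (y * y) * (x * y) := by rw [h]; simp only [mul_assoc]
    _ = a * (y * (x * x) * y) := by rw [hy, hz]; simp only [mul_assoc]
    _ = a * (a * (y * y)) := by rw [hx, hz y]; simp only [mul_assoc]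
    _ = a ^ 3 := by rw [hy, pow_succ', pow_two]

end

theorem mult_le_gp : Cfsg.Agent.H97.Omega.MultLE omegaPres.Gp 6 := by
  intro Γ _ _ σ hσ
  obtain ⟨-, hfinG, hcardG, -⟩ := omega_facts
  obtain ⟨hperf, -⟩ := Cfsg.Agent.H97.Omega.stem_comp gp_perfect hσ
    (π := MonoidHom.id omegaPres.Gp) (fun x => ⟨x, rfl⟩) (by simp)
  choose r₁ hr₁ using fun i => hσ.1 (gG i)
  obtain ⟨r, hr, hbraid⟩ := TwistedStem.exists_braided diagram hrel hσ.2.1 r₁ hr₁
  obtain ⟨ε, hεk, hε2, hε⟩ := exists_common_eq diagram hrel hσ.2.1 r hr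
  have cen : ∀ z ∈ σ.ker, ∀ x : Γ, x * z = z * x := fun z hz x => mem_center_iff.1 (hσ.2.1 hz) x
  have hsqk : ∀ i, r i * r i ∈ σ.ker := fun i => by
    rw [MonoidHom.mem_ker, map_mul, hr]; exact gen_sq hrel i
  set a := r 0 * r 0 with ha
  have hall : ∀ i, r i * r i = a := fun i => diagram.connected Γ (fun i => r i * r i) (fun j k h => by
    show r j * r j = r k * r k
    have e : r k = r j * r k * r j * (r j * r k)⁻¹ := by rw [hbraid j k h]; group
    calc r j * r j = (r j * r k) * (r j * r j) * (r j * r k)⁻¹ := by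
          rw [cen _ (hsqk j) (r j * r k), mul_inv_cancel_right]
      _ = r k * r k := by
          conv_rhs => rw [e]
          group) i 0
  have haK : a ∈ σ.ker := hsqk 0
  have hcom : ∀ i j, treeMatrix i j = 2 → r i * r j = ε * (r j * r i) := fun i j hij => by
    rw [← hε i j hij, commutatorElement_def]
    group
  set d := orderOf a with hd
  have hdpos : 0 < d := orderOf_pos a
  have : NeZero (2 * d) := ⟨by omega⟩
  let c : Multiplicative (ZMod (2 * d)) := Multiplicative.ofAdd 1
  have hcord : orderOf c = 2 * d := by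
    rw [orderOf_ofAdd_eq_addOrderOf, ZMod.addOrderOf_one]
  set N : Subgroup (Γ × Multiplicative (ZMod (2 * d))) := zpowers (a, c ^ 2) with hN
  have hNn : N.Normal := by
    refine ⟨fun x hx y => ?_⟩
    obtain ⟨i, rfl⟩ := hx
    have : Commute y ((a, c ^ 2) ^ i) :=
      Commute.zpow_right (Prod.ext (cen a haK y.1) (mul_comm _ _)) i
    show y * (a, c ^ 2) ^ i * y⁻¹ ∈ N
    rw [this.eq, mul_inv_cancel_right]
    exact zpow_mem_zpowers _ _
  let q := QuotientGroup.mk' N
  have hq : q (a, c ^ 2) = 1 := (QuotientGroup.eq_one_iff _).2 (mem_zpowers _)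
  -- the order of the new group
  have hcardP : Nat.card ((Γ × Multiplicative (ZMod (2 * d))) ⧸ N) = 2 * Nat.card Γ := by
    have h1 := Subgroup.card_eq_card_quotient_mul_card_subgroup N
    have h2 : Nat.card N = d := by
      rw [hN, Nat.card_zpowers, Prod.orderOf_mk, orderOf_pow' _ (by norm_num : (2 : ℕ) ≠ 0), hcord]
      rw [show Nat.gcd (2 * d) 2 = 2 from Nat.gcd_eq_right (dvd_mul_right 2 d),
        Nat.mul_div_cancel_left _ (by norm_num : 0 < 2), ← hd, Nat.lcm_self]
    rw [h2, Nat.card_prod, Nat.card_congr Multiplicative.toAdd, Nat.card_zmod] at h1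
    have h3 : 2 * Nat.card Γ * d = Nat.card ((Γ × Multiplicative (ZMod (2 * d))) ⧸ N) * d := by
      rw [← h1]; ring
    exact (Nat.eq_of_mul_eq_mul_right hdpos h3).symm
  have hcentral : ∀ (x : Γ) y, x ∈ σ.ker →
      q (x, y) ∈ center ((Γ × Multiplicative (ZMod (2 * d))) ⧸ N) := fun x y hx => by
    rw [mem_center_iff]
    intro z
    obtain ⟨⟨x', y'⟩, rfl⟩ := QuotientGroup.mk'_surjective N z
    show q (x', y') * q (x, y) = q (x, y) * q (x', y')
    rw [← map_mul, ← map_mul, Prod.mk_mul_mk, Prod.mk_mul_mk, cen x hx x', mul_comm y']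
  -- the letters
  let rr : ℕ → Γ := fun l => if h : l < 8 then r ⟨l, h⟩ else 1
  let u : ℕ → (Γ × Multiplicative (ZMod (2 * d))) ⧸ N := fun l => q (rr l, c)
  let s := evalW u wordS
  let z := evalW u wordZ
  let e : ℕ → (Γ × Multiplicative (ZMod (2 * d))) ⧸ N := fun l =>
    match l with
    | 0 => u 0 | 1 => u 1 | 2 => u 2 | 3 => u 3 | 4 => u 4 | 5 => u 5 | 6 => u 6 | 7 => u 7
    | 8 => q (ε, 1) | 9 => s | 10 => s⁻¹ | 11 => z | 12 => z⁻¹
    | _ => 1
  have he8 : ∀ i : Fin 8, e i.val = q (r i, c) := by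
    intro i; fin_cases i <;> rfl
  have hlong : ∀ w ∈ omegaPres.R, (w.all fun l => decide (l < 8)) = true →
      evalW u w ∈ center ((Γ × Multiplicative (ZMod (2 * d))) ⧸ N) := by
    intro w hw hl
    rw [evalW_pair q rr c u w (fun _ _ => rfl)]
    refine hcentral _ _ ?_
    rw [MonoidHom.mem_ker, evalW_hom]
    refine Eq.trans ?_ (omegaPres_ok.rel w hw)
    unfold evalW
    congr 1
    refine List.map_congr_left fun l hm => ?_
    have hl8 : l < 8 := of_decide_eq_true (List.all_eq_true.1 hl l hm)
    show σ (rr l) = _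
    rw [show rr l = r ⟨l, hl8⟩ from dif_pos hl8, hr]
    rfl
  have hs : s ∈ center ((Γ × Multiplicative (ZMod (2 * d))) ⧸ N) :=
    hlong _ word_facts.2.2.1 word_facts.1
  have hz : z ∈ center ((Γ × Multiplicative (ZMod (2 * d))) ⧸ N) :=
    hlong _ word_facts.2.2.2 word_facts.2.1
  have hN8 : q (ε, 1) ∈ center ((Γ × Multiplicative (ZMod (2 * d))) ⧸ N) := hcentral _ _ hεk
  have hsq : ∀ i : Fin 8, e i.val * e i.val = 1 := fun i => by
    rw [he8, ← map_mul, Prod.mk_mul_mk, hall, ← pow_two c, hq]
  have hne : q (ε, 1) * q (ε, 1) = 1 := by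
    rw [← map_mul, Prod.mk_mul_mk, ← pow_two, hε2, mul_one]
    exact map_one q
  have hconj : ∀ (i : Fin 8) (t : (Γ × Multiplicative (ZMod (2 * d))) ⧸ N), t ∈ center _ →
      t * (e i.val * (t⁻¹ * (e i.val * 1))) = 1 := fun i t ht => by
    rw [mul_one, ← mul_assoc (e i.val) t⁻¹, mem_center_iff.1 (inv_mem ht) (e i.val), mul_assoc,
      mul_inv_cancel_left, hsq]
  have hagree : ∀ w : List ℕ, (w.all fun l => decide (l < 8)) = true → evalW e w = evalW u w := by
    intro w hl
    unfold evalW
    congr 1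
    refine List.map_congr_left fun l hm => ?_
    have hl8 : l < 8 := of_decide_eq_true (List.all_eq_true.1 hl l hm)
    interval_cases l <;> rfl
  have hsat : Sat e := by
    refine ⟨fun w hw => ?_, fun l => ?_⟩
    · have hk := of_decide_eq_true (List.all_eq_true.1 relWords_kinds w hw)
      simp only [kinds, List.mem_append, List.mem_map, List.mem_flatMap, List.mem_filter,
        List.mem_finRange, true_and, List.mem_cons, List.not_mem_nil, or_false, beq_iff_eq] at hk
      rcases hk with (((⟨i, rfl⟩ | ⟨i, j, hij, rfl⟩) | ⟨i, j, hij, rfl⟩) | hw') | ⟨i, hw'⟩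
      · simpa [evalW] using hsq i
      · have h3 : (e i.val * e j.val) ^ 3 = 1 := by
          rw [he8, he8, ← map_mul, ← map_pow]
          show q ((r i * r j) ^ 3, (c * c) ^ 3) = 1
          rw [cube_eq (hall i) (hall j) (fun x => cen a haK x) (hbraid i j hij), ← pow_two c,
            ← Prod.pow_mk, map_pow, hq, one_pow]
        simpa [evalW, pow_succ, mul_assoc] using h3
      · have h2 : e i.val * e j.val * (e i.val * e j.val) * q (ε, 1) = 1 := by
          rw [he8, he8, ← map_mul, ← map_mul, ← map_mul]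
          show q (r i * r j * (r i * r j) * ε, c * c * (c * c) * 1) = 1
          have e2 : r i * r j * (r i * r j) * ε = a ^ 2 := by
            calc r i * r j * (r i * r j) * ε = ε * (r i * r j) * (r i * r j) := by
                  rw [cen ε hεk (r i * r j * (r i * r j))]; simp only [mul_assoc]
              _ = ε * ε * (r j * (r i * r i) * r j) := by
                  nth_rw 1 [hcom i j hij]; simp only [mul_assoc]
              _ = a ^ 2 := by
                  rw [← pow_two, hε2, one_mul, hall i, cen a haK (r j), mul_assoc, hall j, pow_two]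
          rw [e2, mul_one, ← pow_two c, ← pow_two, ← Prod.pow_mk, map_pow, hq, one_pow]
        have e8 : e 8 = q (ε, 1) := rfl
        simpa [evalW, e8, mul_assoc] using h2
      · rcases hw' with rfl | rfl | rfl | rfl | rfl
        · show e 8 * (e 8 * 1) = 1
          rw [mul_one]; exact hne
        · show s * (s⁻¹ * 1) = 1
          rw [mul_one, mul_inv_cancel]
        · show z * (z⁻¹ * 1) = 1
          rw [mul_one, mul_inv_cancel]
        · rw [evalW_append, hagree _ word_facts.1]
          show s * (s⁻¹ * 1) = 1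
          rw [mul_one, mul_inv_cancel]
        · rw [evalW_append, hagree _ word_facts.2.1]
          show z * (z⁻¹ * 1) = 1
          rw [mul_one, mul_inv_cancel]
      · rcases hw' with rfl | rfl | rfl
        · show q (ε, 1) * (e i.val * (q (ε, 1) * (e i.val * 1))) = 1
          have hi : (q (ε, 1))⁻¹ = q (ε, 1) := inv_eq_of_mul_eq_one_right hne
          have := hconj i _ hN8
          rwa [hi] at this
        · exact hconj i s hs
        · exact hconj i z hz
    · by_cases hl : l < 8
      · have e1 : linv ivL l = l := by interval_cases l <;> rfl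
        rw [e1]
        exact (inv_eq_of_mul_eq_one_right (hsq ⟨l, hl⟩)).symm
      · rcases (show l = 8 ∨ l = 9 ∨ l = 10 ∨ l = 11 ∨ l = 12 ∨ 13 ≤ l by omega) with
          rfl | rfl | rfl | rfl | rfl | h13
        · exact (inv_eq_of_mul_eq_one_right hne).symm
        · rfl
        · show s = (s⁻¹)⁻¹
          rw [inv_inv]
        · rfl
        · show z = (z⁻¹)⁻¹
          rw [inv_inv]
        · obtain ⟨k, rfl⟩ := Nat.exists_eq_add_of_le h13
          have e1 : linv ivL (13 + k) = 13 + k := by
            unfold linv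
            rw [List.getD_eq_default]
            simp [ivL]
          rw [e1, show 13 + k = k + 13 by omega]
          show (1 : (Γ × Multiplicative (ZMod (2 * d))) ⧸ N) = 1⁻¹
          rw [inv_one]
  -- the letters generate
  set H := Subgroup.closure {g | ∃ l < 13, e l = g} with hH
  have hgen : H = ⊤ := by
    let ι : Γ →* (Γ × Multiplicative (ZMod (2 * d))) ⧸ N := q.comp (MonoidHom.inl _ _)
    let W := H ⊔ center ((Γ × Multiplicative (ZMod (2 * d))) ⧸ N)
    have hu : ∀ i : Fin 8, q (r i, c) ∈ H := fun i =>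
      Subgroup.subset_closure ⟨i.val, by omega, he8 i⟩
    have hcc : ∀ y, q (1, y) ∈ center ((Γ × Multiplicative (ZMod (2 * d))) ⧸ N) :=
      fun y => hcentral 1 y (one_mem _)
    have hW : ∀ x : Γ, ι x ∈ W := by
      have hr' : ∀ i, ι (r i) ∈ W := fun i => by
        have : ι (r i) = q (r i, c) * q (1, c⁻¹) := by
          rw [← map_mul, Prod.mk_mul_mk, mul_one, mul_inv_cancel]; rfl
        rw [this]
        exact mul_mem (mem_sup_left (hu i)) (mem_sup_right (hcc _))
      have hsurj : (W.comap ι).map σ = ⊤ := by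
        rw [eq_top_iff, ← gG_gen, Subgroup.closure_le]
        rintro _ ⟨i, rfl⟩
        exact ⟨r i, hr' i, hr i⟩
      intro x
      obtain ⟨y, hy, hyx⟩ : σ x ∈ (W.comap ι).map σ := hsurj ▸ mem_top _
      have h2 : ι (y⁻¹ * x) ∈ W := mem_sup_right (hcentral _ 1
        (by rw [MonoidHom.mem_ker, map_mul, map_inv, hyx, inv_mul_cancel]))
      rw [map_mul, map_inv] at h2
      simpa using mul_mem (mem_comap.1 hy) h2
    have hrange : ι.range ≤ H := by
      rw [MonoidHom.range_eq_map, ← Group.isPerfect_def.1 hperf, commutator_def,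
        Subgroup.map_commutator, commutator_le]
      rintro _ ⟨x, -, rfl⟩ _ ⟨y, -, rfl⟩
      obtain ⟨w, hw, t, ht, hxe⟩ := mem_sup_of_normal_right.1 (hW x)
      obtain ⟨w', hw', t', ht', hye⟩ := mem_sup_of_normal_right.1 (hW y)
      rw [← hxe, ← hye, commutatorElement_def,
        Cfsg.Agent.H74.Schur.commutatorElement_mul_central ht ht']
      exact mul_mem (mul_mem (mul_mem hw hw') (inv_mem hw)) (inv_mem hw')
    have hc1 : q (1, c) ∈ H := by
      have : q (1, c) = (ι (r 0))⁻¹ * q (r 0, c) := by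
        rw [← map_inv]
        show _ = q ((r 0)⁻¹, 1) * q (r 0, c)
        rw [← map_mul, Prod.mk_mul_mk, inv_mul_cancel, one_mul]
      rw [this]
      exact mul_mem (inv_mem (hrange ⟨_, rfl⟩)) (hu 0)
    rw [eq_top_iff]
    intro x _
    obtain ⟨⟨x', y⟩, rfl⟩ := QuotientGroup.mk'_surjective N x
    have hy : y = c ^ (Multiplicative.toAdd y).val := by
      rw [← ofAdd_nsmul, nsmul_one, ZMod.natCast_zmod_val, ofAdd_toAdd]
    have : q (x', y) = ι x' * q (1, c) ^ (Multiplicative.toAdd y).val := by
      rw [← map_pow, Prod.pow_mk, one_pow, ← hy]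
      show _ = q (x', 1) * q (1, y)
      rw [← map_mul, Prod.mk_mul_mk, mul_one, one_mul]
    show q (x', y) ∈ H
    rw [this]
    exact mul_mem (hrange ⟨_, rfl⟩) (pow_mem hc1 _)
  obtain ⟨-, hle⟩ := hsat.card_le hgen
  rw [hcardP] at hle
  have hΓ : Nat.card Γ = Nat.card omegaPres.Gp * Nat.card σ.ker := by
    rw [← Subgroup.card_mul_index σ.ker, Subgroup.index_ker,
      MonoidHom.range_eq_top.2 hσ.1, Subgroup.card_top, mul_comm]
  rw [hcardG] at hΓ
  omega

theorem mult_le : Cfsg.Agent.H97.Omega.MultLE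
    (Cfsg.POmega (ZMod 3) (Cfsg.quadFormOdd 3 (ZMod 3))) 6 := by
  obtain ⟨⟨E⟩, -⟩ := omega_facts
  exact Cfsg.Agent.H97.Omega.MultLE.congr E mult_le_gp

end Cfsg.Agent.H87.OmegaSeven
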