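import Cfsg.Agent.H87.OmegaSeven.Table
import Cfsg.Agent.H87.OmegaSeven.SpinTwo
import Cfsg.Agent.H87.OmegaSeven.Upper
import Cfsg.Agent.H87.Fi22.OmegaMain
import Cfsg.Agent.H97.Omega.OddMain

/-!
A perfect central extension with kernel cyclic of order six and trivial multiplier.
-/

set_option autoImplicit false

namespace Cfsg.Agent.H87.OmegaSeven

open Subgroup
open Cfsg.Agent.H45 Cfsg.Agent.H87.Fi22 Cfsg.Spor

/-- words satisfied by elements give a homomorphism -/
theorem exists_hom_of_words {Gen : Type} [DecidableEq Gen] {P : Pres Gen} (h : P.OK) {X : Type}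
    [Group X] (f : ℕ → X) (hrel : ∀ w ∈ P.R, evalW f w = 1)
    (hlt : ∀ w ∈ P.R, ∀ l ∈ w, l < P.gl.length) :
    ∃ φ : P.Gp →* X, ∀ l, l < P.gl.length → φ (P.e l) = f l := by
  let g : Gen → X := fun x => f (ixOf P.gl x)
  have hix : ∀ l (hl : l < P.gl.length), ixOf P.gl P.gl[l] = l := by
    intro l hl
    have hl' : ixOf P.gl P.gl[l] < P.gl.length :=
      List.findIdx_lt_length_of_exists ⟨P.gl[l], List.getElem_mem hl, by simp⟩
    exact h.nodup.getElem_inj_iff.mp
      (of_decide_eq_true (List.findIdx_getElem (p := fun y => decide (y = P.gl[l])) (w := hl')))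
  have he : ∀ l, l < P.gl.length → eOf P.gl g l = f l := by
    intro l hl
    simp only [eOf, List.getElem?_eq_getElem hl, Option.elim_some, g, hix l hl]
  have heval : ∀ w ∈ P.R, evalW (eOf P.gl g) w = 1 := by
    intro w hw
    rw [← hrel w hw]
    unfold evalW
    exact congrArg List.prod (List.map_congr_left fun l hl => he l (hlt w hw l hl))
  have hcox : CoxHolds P.edges g :=
    coxHolds_of_words h.all h.check fun w hw => heval w (List.mem_append_left _ hw)
  have hext : ∀ r ∈ P.extra, FreeGroup.lift g r = 1 := by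
    intro r hr
    have h1 := h.extra_eval _ g
      (fun x => (eq_inv_of_mul_eq_one_left (sq_of_coxHolds hcox h.nodes x)).symm)
    have h2 : FreeGroup.lift g r ∈ P.extra.map (FreeGroup.lift g) := List.mem_map.mpr ⟨r, hr, rfl⟩
    rw [h1, List.mem_map] at h2
    obtain ⟨w, hw, hwr⟩ := h2
    rw [← hwr]
    exact heval w (List.mem_append_right _ hw)
  have hall : ∀ r ∈ coxRelators P.edges ∪ {r | r ∈ P.extra}, FreeGroup.lift g r = 1 := by
    rintro r (⟨x, hx, y, hy, rfl⟩ | hr)
    · simpa [map_pow, map_mul, FreeGroup.lift_apply_of] using hcox x hx y hy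
    · exact hext r hr
  refine ⟨PresentedGroup.toGroup hall, fun l hl => ?_⟩
  rw [← he l hl]
  simp only [Pres.e, eOf, List.getElem?_eq_getElem hl, Option.elim_some]
  exact PresentedGroup.toGroup.of hall

/-- the permutations of the table -/
noncomputable def perm (l : ℕ) : Equiv.Perm (Fin 9477) := sig (permCheck_PT perm_ok) l

/-- the triple cover -/
noncomputable def triple : Subgroup (Equiv.Perm (Fin 9477)) :=
  Subgroup.closure {g | ∃ l < 8, perm l = g}

theorem perm_rel : ∀ w ∈ M9.relWords ++ [[8], [11], [9, 9, 9]], evalW perm w = 1 :=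
  permCheck_rel perm_ok

theorem evalW_mem {w : List ℕ} (h : ∀ l ∈ w, l < 8) : evalW perm w ∈ triple := by
  apply list_prod_mem
  intro x hx
  obtain ⟨l, hl, rfl⟩ := List.mem_map.mp hx
  exact Subgroup.subset_closure ⟨l, h l hl, rfl⟩

theorem rel_cases : ∀ w ∈ omegaPres.R, (∀ l ∈ w, l < 8) ∧
    (w ∈ M9.relWords ∨ w ++ [8] ∈ M9.relWords ∨ w = wordS ∨ w = wordZ) := by decide +kernel

theorem base_rels : wordS ++ [10] ∈ M9.relWords ∧ wordZ ++ [12] ∈ M9.relWords ∧
    [9, 10] ∈ M9.relWords ∧ [11, 12] ∈ M9.relWords ∧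
    ∀ a : Fin 8, [9, a.val, 10, a.val] ∈ M9.relWords ∧ [a.val, a.val] ∈ M9.relWords := by
  decide +kernel

theorem perm_eight : perm 8 = 1 := by
  simpa [evalW] using perm_rel [8] (by simp)

theorem perm_eleven : perm 11 = 1 := by
  simpa [evalW] using perm_rel [11] (by simp)

theorem perm_twelve : perm 12 = 1 := by
  have := perm_rel [11, 12] (List.mem_append_left _ base_rels.2.2.2.1)
  simpa [evalW, perm_eleven] using this

theorem perm_ten : perm 10 = (perm 9)⁻¹ := by
  have := perm_rel [9, 10] (List.mem_append_left _ base_rels.2.2.1)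
  exact (inv_eq_of_mul_eq_one_right (by simpa [evalW] using this)).symm

theorem perm_sq (a : Fin 8) : perm a.val * perm a.val = 1 := by
  simpa [evalW] using perm_rel [a.val, a.val] (List.mem_append_left _ (base_rels.2.2.2.2 a).2)

theorem evalW_wordS : evalW perm wordS = perm 9 := by
  have := perm_rel _ (List.mem_append_left _ base_rels.1)
  rw [evalW_append] at this
  have h10 : evalW perm [10] = (perm 9)⁻¹ := by simp [evalW, perm_ten]
  rw [h10, mul_inv_eq_one] at this
  exact this

theorem evalW_wordZ : evalW perm wordZ = 1 := by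
  have := perm_rel _ (List.mem_append_left _ base_rels.2.1)
  rw [evalW_append] at this
  simpa [evalW, perm_twelve] using this

/-- the central element of order three -/
noncomputable def zeta : triple :=
  ⟨perm 9, evalW_wordS ▸ evalW_mem (fun l hl => of_decide_eq_true
    (List.all_eq_true.1 word_facts.1 l hl))⟩

theorem zeta_ne : zeta ≠ 1 := by
  intro h
  have h9 : perm 9 = 1 := congrArg Subtype.val h
  have h0 : ((perm 9) ⟨0, by norm_num⟩ : ℕ) = tget M9.cols 0 10 := by
    show ((sig (permCheck_PT perm_ok) 9) ⟨0, by norm_num⟩ : ℕ) = _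
    rw [sig, dif_pos (by norm_num : 9 < 13)]
    rfl
  rw [h9] at h0
  have := moves_zero
  rw [← h0] at this
  exact absurd this (by decide)

theorem zeta_cube : zeta ^ 3 = 1 := by
  have := perm_rel [9, 9, 9] (by simp)
  refine Subtype.ext ?_
  show perm 9 ^ 3 = 1
  simpa [evalW, pow_succ, mul_assoc] using this

theorem orderOf_zeta : orderOf zeta = 3 := by
  have : Fact (Nat.Prime 3) := ⟨Nat.prime_three⟩
  exact orderOf_eq_prime zeta_cube zeta_ne

theorem zeta_central : zeta ∈ center triple := by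
  rw [mem_center_iff]
  rintro ⟨g, hg⟩
  refine Subtype.ext ?_
  show g * perm 9 = perm 9 * g
  have hle : triple ≤ Subgroup.centralizer {perm 9} := by
    refine (Subgroup.closure_le _).2 ?_
    rintro _ ⟨l, hl, rfl⟩
    rw [SetLike.mem_coe, Subgroup.mem_centralizer_singleton_iff]
    have h := perm_rel [9, l, 10, l] (List.mem_append_left _ (base_rels.2.2.2.2 ⟨l, hl⟩).1)
    have hsq : perm l * perm l = 1 := perm_sq ⟨l, hl⟩
    have h' : perm 9 * (perm l * ((perm 9)⁻¹ * perm l)) = 1 := by simpa [evalW, perm_ten] using h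
    have h2 : perm 9 * perm l * (perm 9)⁻¹ = (perm l)⁻¹ :=
      eq_inv_of_mul_eq_one_left (by rw [← h']; simp only [mul_assoc])
    rw [inv_eq_of_mul_eq_one_right hsq, mul_inv_eq_iff_eq_mul] at h2
    exact h2.symm
  exact Subgroup.mem_centralizer_singleton_iff.1 (hle hg)

theorem triple_perfect : Group.IsPerfect triple := by
  refine Group.isPerfect_def.2 ?_
  let m := Abelianization.of (G := triple)
  have hk : m.ker = commutator triple := Abelianization.ker_of _
  let x : Fin 8 → triple := fun a => ⟨perm a.val, Subgroup.subset_closure ⟨a.val, a.2, rfl⟩⟩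
  have hsq : ∀ a, m (x a) * m (x a) = 1 := fun a => by
    rw [← map_mul, show x a * x a = 1 from Subtype.ext (perm_sq a), map_one]
  have hbr : ∀ a b : Fin 8, label a b = 3 → m (x a) = m (x b) := by
    intro a b hab
    have hmem : ∀ a b : Fin 8, label a b = 3 →
        [a.val, b.val, a.val, b.val, a.val, b.val] ∈ M9.relWords ∨
        [b.val, a.val, b.val, a.val, b.val, a.val] ∈ M9.relWords := by decide +kernel
    have key : ∀ a b : Fin 8, [a.val, b.val, a.val, b.val, a.val, b.val] ∈ M9.relWords →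
        m (x a) = m (x b) := by
      intro a b h
      have h2 : (x a * x b) ^ 3 = 1 := by
        refine Subtype.ext ?_
        show (perm a.val * perm b.val) ^ 3 = 1
        have := perm_rel _ (List.mem_append_left _ h)
        simpa [evalW, pow_succ, mul_assoc] using this
      have h3 := congrArg m h2
      rw [map_pow, map_mul, map_one, mul_pow, pow_succ, pow_succ (m (x b)), pow_two, pow_two, hsq,
        hsq, one_mul, one_mul] at h3
      exact (eq_inv_of_mul_eq_one_left h3).trans (inv_eq_of_mul_eq_one_right (hsq b))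
    rcases hmem a b hab with h | h
    · exact key a b h
    · exact (key b a h).symm
  have hall : ∀ a, m (x a) = m (x 0) := fun a =>
    diagram.connected (Abelianization triple) (fun a => m (x a)) (fun j k h => hbr j k h) a 0
  have h0 : m (x 0) = 1 := by
    let r : ℕ → triple := fun l => if h : l < 8 then x ⟨l, h⟩ else 1
    have e1 : evalW r wordZ = 1 := by
      refine Subtype.ext ?_
      rw [← Subgroup.coe_subtype, evalW_hom]
      refine Eq.trans ?_ evalW_wordZ
      unfold evalW
      refine congrArg List.prod (List.map_congr_left fun l hm => ?_)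
      have hl8 : l < 8 := of_decide_eq_true (List.all_eq_true.1 word_facts.2.1 l hm)
      show ((r l : triple) : Equiv.Perm (Fin 9477)) = perm l
      rw [show r l = x ⟨l, hl8⟩ from dif_pos hl8]
    have e2 := congrArg m e1
    rw [evalW_hom, map_one] at e2
    have e3 : evalW (fun l => m (r l)) wordZ = m (x 0) ^ 63 := by
      have : List.map (fun l => m (r l)) wordZ = List.replicate 63 (m (x 0)) := by
        rw [List.eq_replicate_iff]
        refine ⟨by rw [List.length_map]; rfl, fun b hb => ?_⟩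
        obtain ⟨l, hl, rfl⟩ := List.mem_map.1 hb
        have hl8 : l < 8 := of_decide_eq_true (List.all_eq_true.1 word_facts.2.1 l hl)
        show m (r l) = _
        rw [show r l = x ⟨l, hl8⟩ from dif_pos hl8, hall]
      rw [evalW, this, List.prod_replicate]
    rw [e3, show 63 = 2 * 31 + 1 from rfl, pow_succ, pow_mul, pow_two, hsq, one_pow, one_mul] at e2
    exact e2
  rw [← hk, eq_top_iff]
  intro g _
  have htop : Subgroup.closure {g : triple | ∃ a, x a = g} = ⊤ := by
    refine Subgroup.map_injective triple.subtype_injective ?_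
    rw [MonoidHom.map_closure, ← MonoidHom.range_eq_map, Subgroup.range_subtype]
    show _ = Subgroup.closure _
    congr 1
    ext y
    constructor
    · rintro ⟨_, ⟨a, rfl⟩, rfl⟩; exact ⟨a.val, a.2, rfl⟩
    · rintro ⟨l, hl, rfl⟩; exact ⟨_, ⟨⟨l, hl⟩, rfl⟩, rfl⟩
  have : Subgroup.closure {g : triple | ∃ a, x a = g} ≤ m.ker := by
    refine (Subgroup.closure_le _).2 ?_
    rintro _ ⟨a, rfl⟩
    exact (hall a).trans h0
  exact this (htop ▸ mem_top g)

/-- the triple cover maps onto the presented group -/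
theorem exists_triple_hom : ∃ ψ : triple →* omegaPres.Gp, Function.Surjective ψ ∧
    ψ.ker ≤ center triple ∧ Nat.card ψ.ker = 3 := by
  set Z := zpowers zeta with hZ
  have hZc : Z ≤ center triple := zpowers_le.2 zeta_central
  have : Z.Normal := ⟨fun z hz g => by
    rw [mem_center_iff.1 (hZc hz) g, mul_inv_cancel_right]; exact hz⟩
  let p := QuotientGroup.mk' Z
  let r : ℕ → triple := fun l =>
    if h : l < 8 then ⟨perm l, Subgroup.subset_closure ⟨l, h, rfl⟩⟩ else 1
  have hr : ∀ w : List ℕ, (∀ l ∈ w, l < 8) →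
      ((evalW r w : triple) : Equiv.Perm (Fin 9477)) = evalW perm w := by
    intro w hw
    rw [← Subgroup.coe_subtype, evalW_hom]
    unfold evalW
    congr 1
    refine List.map_congr_left fun l hm => ?_
    show ((r l : triple) : Equiv.Perm (Fin 9477)) = perm l
    rw [show r l = ⟨perm l, _⟩ from dif_pos (hw l hm)]
  obtain ⟨φ, hφ⟩ := exists_hom_of_words omegaPres_ok (fun l => p (r l)) (fun w hw => by
    obtain ⟨hlt, hc⟩ := rel_cases w hw
    rw [← evalW_hom, QuotientGroup.mk'_apply, QuotientGroup.eq_one_iff]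
    rcases hc with h | h | rfl | rfl
    · rw [show evalW r w = 1 from Subtype.ext ((hr w hlt).trans (perm_rel _ (List.mem_append_left _ h)))]
      exact one_mem _
    · have h' := perm_rel _ (List.mem_append_left _ h)
      rw [evalW_append, show evalW perm [8] = 1 by simp [evalW, perm_eight], mul_one] at h'
      rw [show evalW r w = 1 from Subtype.ext ((hr w hlt).trans h')]
      exact one_mem _
    · rw [show evalW r wordS = zeta from Subtype.ext ((hr _ hlt).trans evalW_wordS)]
      exact mem_zpowers _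
    · rw [show evalW r wordZ = 1 from Subtype.ext ((hr _ hlt).trans evalW_wordZ)]
      exact one_mem _) (fun w hw => (rel_cases w hw).1)
  have hsurj : Function.Surjective φ := by
    rw [← MonoidHom.range_eq_top, eq_top_iff]
    intro y _
    obtain ⟨⟨g, hg⟩, rfl⟩ := QuotientGroup.mk'_surjective Z y
    have : triple ≤ ((φ.range).comap p).map triple.subtype := by
      refine (Subgroup.closure_le _).2 ?_
      rintro _ ⟨l, hl, rfl⟩
      refine ⟨r l, ⟨omegaPres.e l, hφ l hl⟩, ?_⟩
      show ((r l : triple) : Equiv.Perm (Fin 9477)) = perm l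
      rw [show r l = ⟨perm l, _⟩ from dif_pos hl]
    obtain ⟨a, ha, hag⟩ := this hg
    have : a = ⟨g, hg⟩ := Subtype.ext hag
    exact this ▸ ha
  obtain ⟨-, -, -, hsimp⟩ := omega_facts
  have hinj : Function.Injective φ := by
    rw [← MonoidHom.ker_eq_bot_iff]
    refine (Subgroup.Normal.eq_bot_or_eq_top (inferInstance : φ.ker.Normal)).resolve_right fun htop => ?_
    have hZt : Z = ⊤ := by
      rw [eq_top_iff]
      intro g _
      obtain ⟨y, hy⟩ := hsurj (p g)
      have : φ y = 1 := (htop ▸ mem_top y : y ∈ φ.ker)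
      rw [← QuotientGroup.eq_one_iff]
      exact hy.symm.trans this
    have hc : center triple = ⊤ := eq_top_iff.2 (hZt ▸ hZc)
    have h1 := Group.isPerfect_def.1 triple_perfect
    rw [(commutator_eq_bot_iff_center_eq_top _).2 hc] at h1
    exact zeta_ne (mem_bot.1 (h1 ▸ mem_top zeta))
  let e := MulEquiv.ofBijective φ ⟨hinj, hsurj⟩
  refine ⟨e.symm.toMonoidHom.comp p, e.symm.surjective.comp (QuotientGroup.mk'_surjective Z), ?_, ?_⟩
  all_goals
    have hk : (e.symm.toMonoidHom.comp p).ker = Z := by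
      ext g
      rw [MonoidHom.mem_ker, MonoidHom.comp_apply]
      exact e.symm.map_eq_one_iff.trans (QuotientGroup.eq_one_iff g)
    rw [hk]
  · exact hZc
  · rw [hZ, Nat.card_zpowers, orderOf_zeta]

/-- the cover -/
theorem exists_cover : ∃ (D : Type) (_ : Group D) (_ : Finite D)
    (θ : D →* Cfsg.POmega (ZMod 3) (Cfsg.quadFormOdd 3 (ZMod 3))),
    Group.IsPerfect D ∧ Cfsg.HasCyclicSchurMultiplier D 1 ∧ Function.Surjective θ ∧
    θ.ker ≤ center D ∧ IsCyclic θ.ker ∧ Nat.card θ.ker = 6 := by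
  classical
  obtain ⟨⟨EG⟩, hfinG, hcardG, -⟩ := omega_facts
  obtain ⟨ψ, hψ, hψc, hψ3⟩ := exists_triple_hom
  let S := Cfsg.POmega (ZMod 3) (Cfsg.quadFormOdd 3 (ZMod 3))
  let θ₃ : triple →* S := EG.toMonoidHom.comp ψ
  have hθ₃ : Function.Surjective θ₃ := EG.surjective.comp hψ
  have hk₃ : θ₃.ker = ψ.ker := by
    ext g
    exact EG.map_eq_one_iff
  -- the double cover
  have h2 : (2 : ZMod 3) ≠ 0 := by decide
  let Q := Cfsg.Agent.Orthogonal.formOdd (ZMod 3) 3
  have hQ := Cfsg.Agent.Orthogonal.formOdd_nondeg (ZMod 3) 3 h2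
  have hn : Module.finrank (ZMod 3) (Unit ⊕ (Fin 3 ⊕ Fin 3) → ZMod 3) = 2 * 3 + 1 :=
    Cfsg.Agent.Orthogonal.finrank_formOdd (ZMod 3) 3
  obtain ⟨w, hw, ho⟩ := Cfsg.Agent.H97.Omega.exists_orth_ones hQ h2 3 (by omega)
  obtain ⟨E, _, _, π, ε, hperfE, hπ, hπc, hε, hε1, hε2⟩ := exists_spin_double h2 hQ (by omega)
    (hw 0) (hw 1) (hw 2) (ho 0 1 (by decide)) (ho 0 2 (by decide)) (ho 1 2 (by decide))
  have hZ : center (Cfsg.Omega (ZMod 3) (⇑Q)) = ⊥ := by
    show center (Cfsg.Omega (ZMod 3) (⇑(Cfsg.Agent.Orthogonal.formOdd (ZMod 3) 3))) = ⊥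
    rw [Cfsg.Agent.Orthogonal.formOdd_coe]
    exact omega_center_bot
  let θ₂ : E →* S := (QuotientGroup.mk' (center (Cfsg.Omega (ZMod 3) (⇑Q)))).comp
    ((Cfsg.Agent.Orthogonal.omegaEquiv Q).symm.toMonoidHom.comp π)
  have hθ₂ : Function.Surjective θ₂ :=
    (QuotientGroup.mk'_surjective _).comp
      ((MulEquiv.surjective (Cfsg.Agent.Orthogonal.omegaEquiv Q).symm).comp hπ)
  have hk₂ : θ₂.ker = π.ker := by
    ext x
    rw [MonoidHom.mem_ker]
    show QuotientGroup.mk' (center (Cfsg.Omega (ZMod 3) (⇑Q)))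
      ((Cfsg.Agent.Orthogonal.omegaEquiv Q).symm (π x)) = 1 ↔ _
    rw [QuotientGroup.mk'_apply, QuotientGroup.eq_one_iff, hZ, Subgroup.mem_bot]
    exact (Cfsg.Agent.Orthogonal.omegaEquiv Q).symm.map_eq_one_iff
  -- the fibre product
  let P : Subgroup (E × triple) :=
    (θ₂.comp (MonoidHom.fst E triple)).eqLocus (θ₃.comp (MonoidHom.snd E triple))
  let θ₀ : P →* S := (θ₂.comp (MonoidHom.fst E triple)).comp P.subtype
  have hθ₀ : Function.Surjective θ₀ := fun s => by
    obtain ⟨a, ha⟩ := hθ₂ s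
    obtain ⟨b, hb⟩ := hθ₃ s
    exact ⟨⟨(a, b), ha.trans hb.symm⟩, ha⟩
  have hθ₀c : θ₀.ker ≤ center P := by
    intro z hz
    have h1 : z.1.1 ∈ π.ker := hk₂ ▸ (hz : θ₂ z.1.1 = 1)
    have h3 : z.1.2 ∈ θ₃.ker := (show θ₂ z.1.1 = θ₃ z.1.2 from z.2).symm.trans hz
    rw [mem_center_iff]
    intro y
    exact Subtype.ext (Prod.ext (mem_center_iff.1 (hπc h1) y.1.1)
      (mem_center_iff.1 (hψc (hk₃ ▸ h3)) y.1.2))
  have hperfS : Group.IsPerfect S := by
    rw [Group.isPerfect_def, ← Subgroup.map_top_of_surjective θ₂ hθ₂,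
      ← Group.isPerfect_def.1 hperfE, Cfsg.Agent.H74.Schur.map_commutator_of_surjective θ₂ hθ₂]
  obtain ⟨hmap, hperfD⟩ := Cfsg.Agent.H74.Schur.commutator_perfect hθ₀ hθ₀c hperfS
  let θ : commutator P →* S := θ₀.comp (commutator P).subtype
  have hθ : Function.Surjective θ := fun s => by
    obtain ⟨d, hd, hde⟩ : s ∈ (commutator P).map θ₀ := hmap ▸ mem_top s
    exact ⟨⟨d, hd⟩, hde⟩
  have hθc : θ.ker ≤ center (commutator P) := fun z hz => by
    rw [mem_center_iff]
    intro y
    exact Subtype.ext (mem_center_iff.1 (hθ₀c (show (z : P) ∈ θ₀.ker from hz)) y)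
  have hst : Cfsg.IsStemExtension θ :=
    ⟨hθ, hθc, by rw [Group.isPerfect_def.1 hperfD]; exact le_top⟩
  have hle : Nat.card θ.ker ≤ 6 := mult_le _ θ hst
  -- projections
  have hsurjE : Function.Surjective
      ((MonoidHom.fst E triple).comp (P.subtype.comp (commutator P).subtype)) := by
    have hp : Function.Surjective ((MonoidHom.fst E triple).comp P.subtype) := fun a => by
      obtain ⟨b, hb⟩ := hθ₃ (θ₂ a)
      exact ⟨⟨(a, b), hb.symm⟩, rfl⟩
    intro a
    obtain ⟨d, hd, hde⟩ : a ∈ (commutator P).map ((MonoidHom.fst E triple).comp P.subtype) := by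
      rw [Cfsg.Agent.H74.Schur.map_commutator_of_surjective _ hp, Group.isPerfect_def.1 hperfE]
      exact mem_top a
    exact ⟨⟨d, hd⟩, hde⟩
  have hsurjT : Function.Surjective
      ((MonoidHom.snd E triple).comp (P.subtype.comp (commutator P).subtype)) := by
    have hp : Function.Surjective ((MonoidHom.snd E triple).comp P.subtype) := fun b => by
      obtain ⟨a, ha⟩ := hθ₂ (θ₃ b)
      exact ⟨⟨(a, b), ha⟩, rfl⟩
    intro b
    obtain ⟨d, hd, hde⟩ : b ∈ (commutator P).map ((MonoidHom.snd E triple).comp P.subtype) := by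
      rw [Cfsg.Agent.H74.Schur.map_commutator_of_surjective _ hp,
        Group.isPerfect_def.1 triple_perfect]
      exact mem_top b
    exact ⟨⟨d, hd⟩, hde⟩
  have hS : Finite S := Finite.of_equiv _ EG.toEquiv
  have hSpos : 0 < Nat.card S := Nat.card_pos
  have card_of : ∀ (X : Type) [Group X] (f : X →* S), Function.Surjective f →
      Nat.card X = Nat.card S * Nat.card f.ker := by
    intro X _ f hf
    rw [← Subgroup.card_mul_index f.ker, Subgroup.index_ker, MonoidHom.range_eq_top.2 hf,
      Subgroup.card_top, mul_comm]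
  have hdvd : ∀ (X : Type) [Group X] (f : X →* S) (p : commutator P →* X), Function.Surjective f →
      Function.Surjective p → Nat.card f.ker ∣ Nat.card θ.ker := by
    intro X _ f p hf hp
    have := Subgroup.card_dvd_of_surjective p hp
    rw [card_of _ f hf, card_of _ θ hθ] at this
    exact Nat.dvd_of_mul_dvd_mul_left hSpos this
  have h2d : 2 ∣ Nat.card θ.ker := by
    refine dvd_trans ?_ (hdvd E θ₂ _ hθ₂ hsurjE)
    have hεo : orderOf (⟨ε, hk₂.symm ▸ hε⟩ : θ₂.ker) = 2 := by
      have : Fact (Nat.Prime 2) := ⟨Nat.prime_two⟩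
      exact orderOf_eq_prime (Subtype.ext (by rw [pow_two]; exact hε2))
        fun h => hε1 (congrArg Subtype.val h)
    exact hεo ▸ orderOf_dvd_natCard _
  have h3d : 3 ∣ Nat.card θ.ker := by
    have := hdvd triple θ₃ _ hθ₃ hsurjT
    rwa [hk₃, hψ3] at this
  have hpos : 0 < Nat.card θ.ker := Nat.card_pos
  have h6 : Nat.card θ.ker = 6 := by omega
  refine ⟨commutator P, inferInstance, inferInstance, θ, hperfD, ?_, hθ, hθc, ?_, h6⟩
  · refine Cfsg.Agent.H74.Schur.hasCyclicSchurMultiplier_one fun Δ _ _ τ hτ => ?_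
    obtain ⟨-, hstτ, hcard⟩ := Cfsg.Agent.H97.Omega.stem_comp hperfD hτ hθ hθc
    have := mult_le Δ _ hstτ
    rw [hcard, h6] at this
    exact Subgroup.card_eq_one.1 (le_antisymm (by omega) Nat.card_pos)
  · have : Fact (Nat.Prime 2) := ⟨Nat.prime_two⟩
    have : Fact (Nat.Prime 3) := ⟨Nat.prime_three⟩
    obtain ⟨a, ha⟩ := exists_prime_orderOf_dvd_card' 2 h2d
    obtain ⟨b, hb⟩ := exists_prime_orderOf_dvd_card' 3 h3d
    have hab : Commute a b := Subtype.ext (mem_center_iff.1 (hθc b.2) a.1)
    exact isCyclic_of_orderOf_eq_card (a * b) (by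
      rw [hab.orderOf_mul_eq_mul_orderOf_of_coprime (by rw [ha, hb]; norm_num), ha, hb, h6])

end Cfsg.Agent.H87.OmegaSeven
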